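import Groth.Agent.Lib.IdealMul9.GenericPiece
import Groth.Agent.Lib.IdealMul9.Ops
import Groth.Agent.Lib.HomSh.Coherent

/-!
# A map from a direct image which is generically an isomorphism
-/

set_option autoImplicit false
set_option linter.all false
set_option maxHeartbeats 1000000
set_option backward.isDefEq.respectTransparency false
universe u

noncomputable section

open CategoryTheory CategoryTheory.Limits AlgebraicGeometry TopologicalSpace Opposite

namespace GrothLib.ChevPush5

open GrothLib.QCoh GrothLib.IdealMul9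

attribute [local instance] Abelian.hasFiniteBiproducts

variable {Y : Scheme.{u}}

theorem exists_isIso_restrict [IsLocallyNoetherian Y] {A B : Y.Modules} (hA : Coh.IsCoh A) (hB : Coh.IsCoh B)
    (u : A ⟶ B) (x : Y) (h : Function.Bijective (stalkLin u x)) :
    ∃ V : Y.Opens, x ∈ V ∧ IsIso ((Scheme.Modules.restrictFunctor V.ι).map u) := by
  have hC := isCoh_cokernel u hA hB
  have hK := QCoh.isCoh_kernel u hA hB
  let V : Y.Opens := ⟨(CohB1.support (cokernel u))ᶜ ∩ (CohB1.support (kernel u))ᶜ,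
    (isClosed_support_of_isCoh hC).isOpen_compl.inter (isClosed_support_of_isCoh hK).isOpen_compl⟩
  refine ⟨V, ⟨notMem_support_cokernel_of_surjective u h.2, fun hk => hk ⟨fun a b => ?_⟩⟩,
    Ref1.isIso_restrict_of_bijective u V fun y hy => ⟨?_, fun v => ?_⟩⟩
  · have hz : ∀ c, stalkLin u x (stalkLin (kernel.ι u) x c) = 0 := fun c => by
      rw [← stalkLin_comp, kernel.condition]
      exact LinearMap.congr_fun (congrArg ModuleCat.Hom.hom ((OX.stalk x).map_zero _ _)) c
    exact stalkLin_injective (kernel.ι u) x (h.1 ((hz a).trans (hz b).symm))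
  · haveI := stalk_subsingleton_of_notMem (hy.2 : y ∉ CohB1.support (kernel u))
    refine (injective_iff_map_eq_zero (stalkLin u y)).2 fun v hv => ?_
    obtain ⟨w, rfl⟩ := (ShortComplex.moduleCat_exact_iff _).1
      ((OX.exact_iff (ShortComplex.mk (kernel.ι u) u (kernel.condition u))).1
        (ShortComplex.exact_kernel u) y) v hv
    rw [Subsingleton.elim (α := (kernel u).presheaf.stalk y) w 0]
    exact map_zero _
  · haveI := stalk_subsingleton_of_notMem (hy.1 : y ∉ CohB1.support (cokernel u))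
    exact (ShortComplex.moduleCat_exact_iff _).1
      ((OX.exact_iff (ShortComplex.mk u (cokernel.π u) (cokernel.condition u))).1 (ShortComplex.exact_cokernel u) y) v
      (Subsingleton.elim (α := (cokernel u).presheaf.stalk y) _ _)

/-- The stalk of a finite biproduct. -/
def stalkBiproduct (y : Y) {n : ℕ} (g : Fin n → Y.Modules) :
    ((OX.stalk y).obj (⨁ g)) ≅ ModuleCat.of (Y.presheaf.stalk y) (∀ i, (OX.stalk y).obj (g i)) :=
  (OX.stalk y).mapBiproduct g ≪≫ ModuleCat.biproductIsoPi _

theorem finrank_stalk_biproduct [IsIntegral Y] [IsLocallyNoetherian Y] {n : ℕ} (M : Y.Modules) (hM : Coh.IsCoh M) :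
    Module.finrank Y.functionField ((⨁ fun _ : Fin n => M).presheaf.stalk (genericPoint Y)) =
      n * Module.finrank Y.functionField (M.presheaf.stalk (genericPoint Y)) := by
  haveI : Module.Finite Y.functionField (M.presheaf.stalk (genericPoint Y)) := QCoh.stalk_finite M hM _
  refine (LinearEquiv.finrank_eq (R := Y.functionField)
    (stalkBiproduct (genericPoint Y) (fun _ : Fin n => M)).toLinearEquiv).trans ?_
  refine (Module.finrank_pi_fintype Y.functionField
    (M := fun _ : Fin n => (M.presheaf.stalk (genericPoint Y) : Type u))).trans ?_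
  simp

theorem exists_coh_hom_pushforward {X : Scheme.{u}} [IsIntegral Y] [IsNoetherian Y] (f : X ⟶ Y) [IsFinite f]
    (F : Y.Modules) (hF : Coh.IsCoh F) :
    ∃ (G : X.Modules) (u : (Scheme.Modules.pushforward f).obj G ⟶
        ∐ fun _ : Fin (Module.finrank (Y.functionField)
            (((Scheme.Modules.pushforward f).obj (Coh.structureModule X)).presheaf.stalk (genericPoint Y))) => F),
      Coh.IsCoh G ∧ ∃ V : Y.Opens, genericPoint Y ∈ V ∧
        IsIso ((Scheme.Modules.restrictFunctor V.ι).map u) := by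
  classical
  haveI : IsLocallyNoetherian X := LocallyOfFiniteType.isLocallyNoetherian f
  let η := genericPoint Y
  let fO := (Scheme.Modules.pushforward f).obj (Coh.structureModule X)
  have hO := HomSh.isCoh_structureModule X
  have hfO : Coh.IsCoh fO :=
    haveI := hO.1
    ⟨QCoh.isQuasicoherent_pushforward f _, QCoh.isFiniteType_pushforward f _ hO.2⟩
  let m := Module.finrank Y.functionField (fO.presheaf.stalk η)
  let r := Module.finrank Y.functionField (F.presheaf.stalk η)
  let G0 : X.Modules := ⨁ fun _ : Fin r => Coh.structureModule X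
  have hG0 : Coh.IsCoh G0 := QCoh.isCoh_biproduct_fin _ fun _ => hO
  have hM1 : Coh.IsCoh (⨁ fun _ : Fin r => fO) := QCoh.isCoh_biproduct_fin _ fun _ => hfO
  let eM : (Scheme.Modules.pushforward f).obj G0 ≅ ⨁ fun _ : Fin r => fO :=
    (Scheme.Modules.pushforward f).mapBiproduct _
  have hM : Coh.IsCoh ((Scheme.Modules.pushforward f).obj G0) := QCoh.isCoh_of_iso eM.symm hM1
  let T : Y.Modules := ⨁ fun _ : Fin m => F
  have hT : Coh.IsCoh T := QCoh.isCoh_biproduct_fin _ fun _ => hF
  haveI : Module.Finite Y.functionField (((Scheme.Modules.pushforward f).obj G0).presheaf.stalk η) :=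
    QCoh.stalk_finite _ hM η
  haveI : Module.Finite Y.functionField (T.presheaf.stalk η) := QCoh.stalk_finite _ hT η
  have hdim : Module.finrank Y.functionField (((Scheme.Modules.pushforward f).obj G0).presheaf.stalk η) =
      Module.finrank Y.functionField (T.presheaf.stalk η) := by
    refine (LinearEquiv.finrank_eq (R := Y.functionField) ((OX.stalk η).mapIso eM).toLinearEquiv).trans ?_
    refine (finrank_stalk_biproduct fO hfO).trans ?_
    exact (mul_comm r m).trans (finrank_stalk_biproduct F hF).symm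
  let θ : (((Scheme.Modules.pushforward f).obj G0).presheaf.stalk η) ≃ₗ[Y.presheaf.stalk η] T.presheaf.stalk η :=
    LinearEquiv.ofFinrankEq (R := Y.functionField) _ _ hdim
  obtain ⟨V, hV, φ₀, hφ₀⟩ := CohHom9.exists_hom_restrict T _ hM η θ.toLinearMap
  let C : Closeds Y := ⟨(V : Set Y)ᶜ, V.isOpen.isClosed_compl⟩
  let J := Scheme.IdealSheafData.vanishingIdeal C
  have hJ : (V : Set Y) = (J.support : Set Y)ᶜ := by
    rw [Scheme.IdealSheafData.coe_support_vanishingIdeal, show (C : Set Y) = (V : Set Y)ᶜ from rfl,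
      compl_compl]
  obtain ⟨n, ψ, hψ⟩ := exists_lift_pow hT.1 hM J V hJ φ₀
  let j := Dual3.idealMulι (J ^ n) ((Scheme.Modules.pushforward f).obj G0)
  have hjb : Function.Bijective (stalkLin j η) := by
    refine ⟨stalkLin_injective j η, fun v => ?_⟩
    obtain ⟨W₀, hW, hηW, hWV⟩ := Opens.isBasis_iff_nbhd.1 Y.isBasis_affineOpens hV
    let W : Y.affineOpens := ⟨W₀, hW⟩
    have htop : J.ideal W = ⊤ := by
      by_contra hne
      obtain ⟨P, hP, hle⟩ := Ideal.exists_le_maximal _ hne
      have hmem : W.2.fromSpec ⟨P, hP.isPrime⟩ ∈ (W.1 : Set Y) := W.2.range_fromSpec ▸ ⟨_, rfl⟩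
      have hsup : W.2.fromSpec ⟨P, hP.isPrime⟩ ∈ (J.support : Set Y) := by
        refine ((J.coe_support_inter W).ge ⟨?_, hmem⟩).1
        have := W.2.fromSpec_image_zeroLocus (J.ideal W : Set Γ(Y, W.1))
        exact (this ▸ ⟨⟨P, hP.isPrime⟩, hle, rfl⟩ : _ ∈ Y.zeroLocus (U := W.1) (J.ideal W : Set Γ(Y, W.1)) ∩ W.1).1
      have hV' : W.2.fromSpec ⟨P, hP.isPrime⟩ ∈ (V : Set Y) := hWV hmem
      rw [hJ] at hV'
      exact hV' hsup
    haveI := hM.1
    obtain ⟨c, z, hc, hz⟩ := WeakAss.exists_smul_eq_germ W.2 hηW v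
    obtain ⟨w, hw⟩ := (exists_app_idealMulι_iff (J ^ n) hM.1 W z).2 (by
      rw [Scheme.IdealSheafData.ideal_pow, Pi.pow_apply, htop, ← Ideal.one_eq_top, one_pow, Ideal.one_eq_top,
        Submodule.top_smul]
      trivial)
    have hu : IsUnit (Y.presheaf.germ W.1 η hηW c) :=
      (Scheme.mem_basicOpen _ c η hηW).mp (WeakAss.notMem_primeAt_iff.mp hc)
    refine ⟨((hu.unit⁻¹ : _ˣ) : Y.presheaf.stalk η) •
      ((Dual3.idealMul (J ^ n)).obj _).presheaf.germ W.1 η hηW w, ?_⟩
    rw [map_smul, stalkLin_germ, hw, ← hz, smul_smul, IsUnit.val_inv_mul, one_smul]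
  have hψb : ∀ v, stalkLin ψ η v = θ (stalkLin j η v) := fun v => by
    have h1 := stalkLin_eq_of_restrict_eq hψ hV v
    refine h1.trans (Eq.trans ?_ (ConcreteCategory.congr_hom hφ₀ (stalkLin j η v)))
    have h3 := stalkLin_eq_of_restrict_eq (f := j) rfl hV v
    rw [h3, ← ConcreteCategory.comp_apply]
    congr 1
    rw [show ∀ {A B C : (V : Scheme.{u}).Modules} (a : A ⟶ B) (b : B ⟶ C),
      (a ≫ b).mapPresheaf = a.mapPresheaf ≫ b.mapPresheaf from fun _ _ => rfl, Functor.map_comp]
    simp only [Category.assoc, Iso.hom_inv_id_app_assoc]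
    rfl
  have hψη : Function.Bijective (stalkLin ψ η) := by
    rw [show ⇑(stalkLin ψ η) = ⇑θ ∘ ⇑(stalkLin j η) from funext hψb]
    exact θ.bijective.comp hjb
  haveI := hG0.1
  obtain ⟨e, -⟩ := exists_pushforward_iso f hG0.1 (J ^ n)
  let u : (Scheme.Modules.pushforward f).obj ((Dual3.idealMul ((J ^ n).comap f)).obj G0) ⟶
      ∐ fun _ : Fin m => F := e.inv ≫ ψ ≫ (biproduct.isoCoproduct _).hom
  have hG : Coh.IsCoh ((Dual3.idealMul ((J ^ n).comap f)).obj G0) := isCoh_idealMul _ hG0
  refine ⟨_, u, hG, exists_isIso_restrict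
    (QCoh.isCoh_of_iso e (isCoh_idealMul _ hM)) (QCoh.isCoh_of_iso (biproduct.isoCoproduct _) hT) u η ?_⟩
  have hiso : ∀ {A B : Y.Modules} (a : A ≅ B), Function.Bijective (stalkLin a.hom η) := fun a =>
    ((OX.stalk η).mapIso a).toLinearEquiv.bijective
  rw [show ⇑(stalkLin u η) = ⇑(stalkLin (biproduct.isoCoproduct (fun _ : Fin m => F)).hom η) ∘ ⇑(stalkLin ψ η) ∘
      ⇑(stalkLin e.inv η) from funext fun v => by
    refine (stalkLin_comp e.inv _ η v).trans ?_
    exact stalkLin_comp ψ _ η _]
  exact (hiso _).comp (hψη.comp (hiso e.symm))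

end GrothLib.ChevPush5
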